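import Mathlib
import Cfsg.Agent.Lib.SignDiag.Basic
import Cfsg.Agent.Lib.TransferOrbit.Basic

/-!
A Sylow 2-subgroup inside `GL₃` of an odd field with an elementary abelian subgroup of order 8.
-/

set_option autoImplicit false

namespace Cfsg.Agent.Lib.RankThreeLinear

open Matrix

section Linear

variable {F : Type*} [Field F]

theorem exists_neg_one (h2 : (2 : F) ≠ 0) {E : Type*} [Group E] [Finite E]
    (f : E →* GL (Fin 3) F) (hf : Function.Injective f) (hcomm : ∀ a b : E, a * b = b * a)
    (hinv : ∀ a : E, a ^ 2 = 1) (hcard : Nat.card E = 8) : ∃ a : E, f a = -1 := by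
  classical
  obtain ⟨P, s, hs, hPs⟩ := SignDiag.exists_signs h2 f hcomm hinv
  have hne : (1 : F) ≠ -1 := fun h => h2 (by linear_combination h)
  have hinj : Function.Injective fun a i => decide (s a i = 1) := by
    intro a b h
    apply SignDiag.signs_injective f hf hPs
    funext i
    have hi := congrFun h i
    simp only [decide_eq_decide] at hi
    rcases hs a i with h1 | h1 <;> rcases hs b i with h3 | h3
    · rw [h1, h3]
    · exact absurd (hi.mp h1) (by rw [h3]; exact hne.symm)
    · exact absurd (hi.mpr h3) (by rw [h1]; exact hne.symm)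
    · rw [h1, h3]
  obtain ⟨a, ha⟩ := ((Nat.bijective_iff_injective_and_card _).mpr ⟨hinj,
    by rw [hcard]; simp [Nat.card_eq_fintype_card]⟩).2 fun _ => false
  refine ⟨a, Units.ext ?_⟩
  have hsa : diagonal (s a) = (-1 : Matrix (Fin 3) (Fin 3) F) := by
    rw [← diagonal_one, diagonal_neg]
    congr 1
    funext i
    exact (hs a i).resolve_left (of_decide_eq_false (congrFun ha i))
  have h := hPs a
  rw [hsa, mul_neg_one, ← neg_one_mul] at h
  rw [Units.val_neg, Units.val_one]
  exact P.isUnit.mul_left_injective h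

theorem sign_pattern (h2 : (2 : F) ≠ 0) {r : Fin 3 → F} (hr : ∀ i, r i = 1 ∨ r i = -1)
    (hp : r 0 * r 1 * r 2 = 1) (hn : ¬ ∀ i, r i = 1) :
    ∃ i, r i = 1 ∧ ∀ j, j ≠ i → r j = -1 := by
  have hne : (-1 : F) ≠ 1 := fun h => h2 (by linear_combination -h)
  rcases hr 0 with a | a <;> rcases hr 1 with b | b <;> rcases hr 2 with c | c <;>
    rw [a, b, c] at hp <;> norm_num [hne] at hp
  · exact absurd (Fin.forall_fin_succ.mpr ⟨a, Fin.forall_fin_succ.mpr ⟨b, Fin.forall_fin_succ.mpr
      ⟨c, fun i => i.elim0⟩⟩⟩) hn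
  · exact ⟨0, a, fun j hj => by fin_cases j <;> first | exact absurd rfl hj | assumption⟩
  · exact ⟨1, b, fun j hj => by fin_cases j <;> first | exact absurd rfl hj | assumption⟩
  · exact ⟨2, c, fun j hj => by fin_cases j <;> first | exact absurd rfl hj | assumption⟩

/-- A central involution of determinant one is a commutator product. -/
theorem mem_commutator (h2 : (2 : F) ≠ 0) {X : Type*} [Group X] [Finite X] (hX : IsPGroup 2 X)
    (f : X →* GL (Fin 3) F) (hf : Function.Injective f) (hnc : ¬ ∀ a b : X, a * b = b * a) {y : X}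
    (hy : y * y = 1) (hy1 : y ≠ 1) (hyc : ∀ a : X, a * y = y * a)
    (hdet : (f y : Matrix (Fin 3) (Fin 3) F).det = 1) : y ∈ commutator X := by
  classical
  haveI : Fact (Nat.Prime 2) := ⟨Nat.prime_two⟩
  have hne : (1 : F) ≠ -1 := fun h => h2 (by linear_combination h)
  obtain ⟨c, hc⟩ : ∃ c : commutator X, orderOf c = 2 := by
    refine exists_prime_orderOf_dvd_card' 2 ?_
    obtain ⟨n, hn⟩ := IsPGroup.iff_card.mp (hX.to_subgroup (commutator X))
    rw [hn]
    refine dvd_pow_self 2 fun h0 => hnc fun a b => ?_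
    rw [h0, pow_zero, Subgroup.card_eq_one] at hn
    have h := Subgroup.commutator_mem_commutator (Subgroup.mem_top a) (Subgroup.mem_top b)
    rw [← commutator_def, hn, Subgroup.mem_bot] at h
    exact commutatorElement_eq_one_iff_mul_comm.mp h
  have hc2 : (c : X) * (c : X) = 1 := by
    have := congrArg Subtype.val (show c ^ 2 = 1 by rw [← hc]; exact pow_orderOf_eq_one c)
    simpa [sq] using this
  have hc1 : (c : X) ≠ 1 := fun h => by
    rw [← Subgroup.orderOf_coe, h, orderOf_one] at hc
    exact absurd hc (by norm_num)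
  have hkill : ∀ φ : X →* Fˣ, φ c = 1 := fun φ => Abelianization.commutator_subset_ker φ c.2
  let d : X →* Fˣ := GeneralLinearGroup.det.comp f
  have hdetc : (f c : Matrix (Fin 3) (Fin 3) F).det = 1 := by
    have h := congrArg Units.val (hkill d)
    simpa [d] using h
  obtain ⟨P, hP⟩ := SignDiag.exists_signDiag h2
    ({(f y : Matrix (Fin 3) (Fin 3) F), (f (c : X) : Matrix (Fin 3) (Fin 3) F)} : Set _)
    (Set.toFinite _) (by
      rintro a (rfl | rfl)
      · rw [← Units.val_mul, ← map_mul, hy, map_one, Units.val_one]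
      · rw [← Units.val_mul, ← map_mul, hc2, map_one, Units.val_one]) (by
      rintro a (rfl | rfl) b (rfl | rfl) <;>
        first | rfl | simp only [← Units.val_mul, ← map_mul, hyc])
  obtain ⟨s, hs, hsy⟩ := hP _ (Or.inl rfl)
  obtain ⟨t, ht, htc⟩ := hP _ (Or.inr rfl)
  have hdet' : ∀ {g : X} {r : Fin 3 → F}, (f g : Matrix (Fin 3) (Fin 3) F).det = 1 →
      (f g : Matrix (Fin 3) (Fin 3) F) * (P : Matrix (Fin 3) (Fin 3) F) =
        (P : Matrix (Fin 3) (Fin 3) F) * diagonal r → r 0 * r 1 * r 2 = 1 := by
    intro g r hg hgr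
    have h := congrArg Matrix.det hgr
    rw [det_mul, det_mul, det_diagonal, hg, one_mul, Fin.prod_univ_three] at h
    exact (mul_eq_left₀ ((isUnit_iff_isUnit_det _).1 P.isUnit).ne_zero).mp h.symm
  have hone : ∀ {g : X} {r : Fin 3 → F}, g ≠ 1 →
      (f g : Matrix (Fin 3) (Fin 3) F) * (P : Matrix (Fin 3) (Fin 3) F) =
        (P : Matrix (Fin 3) (Fin 3) F) * diagonal r → ¬ ∀ i, r i = 1 := by
    intro g r hg hgr hr
    refine hg (hf (Units.ext ?_))
    rw [map_one, Units.val_one]
    rw [show r = fun _ => 1 from funext hr, diagonal_one, mul_one] at hgr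
    exact P.isUnit.mul_left_injective (hgr.trans (one_mul _).symm)
  -- every element of `X` commutes with `diagonal s` after the change of basis
  let M : X →* Matrix (Fin 3) (Fin 3) F :=
    ((Units.coeHom _).comp (MulAut.conj P⁻¹).toMonoidHom).comp f
  have hM : ∀ a, M a = ((P⁻¹ : GL (Fin 3) F) : Matrix (Fin 3) (Fin 3) F) * f a * P := fun a => by
    simp [M]
  have hMy : M y = diagonal s := by
    rw [hM, mul_assoc, hsy, ← mul_assoc, Units.inv_mul, one_mul]
  have hMc : M c = diagonal t := by
    rw [hM, mul_assoc, htc, ← mul_assoc, Units.inv_mul, one_mul]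
  have hsc : ∀ a i j, s i ≠ s j → M a i j = 0 := by
    intro a i j hij
    have h := congrFun (congrFun (show M a * diagonal s = diagonal s * M a by
      rw [← hMy, ← map_mul, ← map_mul, hyc]) i) j
    rw [mul_diagonal, diagonal_mul] at h
    have h' : M a i j * (s j - s i) = 0 := by linear_combination h
    exact (mul_eq_zero.mp h').resolve_right (sub_ne_zero.mpr hij.symm)
  have hts : ∀ i, s i = 1 → (∀ j, j ≠ i → s j = -1) → t i = 1 := by
    intro i hi hj
    let φ : X →* F :=
      { toFun := fun a => M a i i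
        map_one' := by rw [map_one, one_apply_eq]
        map_mul' := fun a b => by
          rw [map_mul, mul_apply, Finset.sum_eq_single i]
          · intro k _ hk
            rw [hsc a i k (by rw [hi, hj k hk]; exact hne), zero_mul]
          · simp }
    have h := congrArg Units.val (hkill φ.toHomUnits)
    rw [MonoidHom.coe_toHomUnits, Units.val_one] at h
    simpa [φ, hMc] using h
  have hps := hdet' hdet hsy
  have hpt := hdet' hdetc htc
  have hns := hone hy1 hsy
  have hnt := hone hc1 htc
  have hst : s = t := by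
    obtain ⟨i, hi, hi'⟩ := sign_pattern h2 hs hps hns
    obtain ⟨k, hk, hk'⟩ := sign_pattern h2 ht hpt hnt
    have hik : i = k := by
      by_contra h
      exact hne ((hts i hi hi').symm.trans (hk' i h))
    subst hik
    funext j
    by_cases hj : j = i
    · rw [hj, hi, hk]
    · rw [hi' j hj, hk' j hj]
  have hyc' : (c : X) = y := by
    refine hf (Units.ext (P.isUnit.mul_left_injective ?_))
    show (f (c : X) : Matrix (Fin 3) (Fin 3) F) * (P : Matrix (Fin 3) (Fin 3) F) = _
    rw [htc, ← hst, ← hsy]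
  exact hyc' ▸ c.2

end Linear

section Transfer

open Cfsg.Agent.Lib.TransferOrbit
open MulAction

variable {G : Type*} [Group G] [Finite G] {A : Type*} [CommGroup A]

/-- A central involution of a Sylow 2-subgroup all whose conjugates by the normaliser have the same
value under a homomorphism survives the transfer. -/
theorem transfer_ne_one (X : Sylow 2 G) (ψ : (X : Subgroup G) →* A) (z : (X : Subgroup G))
    (hz : z * z = 1) (hzc : ∀ a, a * z = z * a) {e : A} (he : e * e = 1)
    (hval : ∀ (g : G) (hg : g⁻¹ * (z : G) * g ∈ (X : Subgroup G)),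
      g ∈ Subgroup.normalizer ((X : Subgroup G) : Set G) → ψ ⟨_, hg⟩ = e) :
    MonoidHom.transfer ψ (z : G) = e := by
  classical
  haveI : Fact (Nat.Prime 2) := ⟨Nat.prime_two⟩
  obtain ⟨P, hP⟩ : ∃ P, P = (X : Subgroup G) := ⟨_, rfl⟩
  haveI := Fintype.ofFinite (orbitRel.Quotient (X : Subgroup G) (G ⧸ (X : Subgroup G)))
  rw [transfer_eq_prod_orbits ψ (X : Subgroup G) z]
  have hterm : ∀ ω : orbitRel.Quotient (X : Subgroup G) (G ⧸ (X : Subgroup G)),
      MonoidHom.transfer (orbitHom ψ (X : Subgroup G) ω.out) z =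
        e ^ (stabilizer (X : Subgroup G) ω.out).index := by
    intro ω
    have hkey : ∀ (k : ℕ) (g₀ : (X : Subgroup G)),
        g₀⁻¹ * z ^ k * g₀ ∈ stabilizer (X : Subgroup G) ω.out → g₀⁻¹ * z ^ k * g₀ = z ^ k := by
      intro k g₀ _
      rw [mul_assoc, ← ((show Commute g₀ z from hzc g₀).pow_right k).eq, inv_mul_cancel_left]
    rw [MonoidHom.transfer_eq_pow _ z hkey]
    obtain ⟨n, hn⟩ := X.2.index (stabilizer (X : Subgroup G) ω.out)
    rcases n with _ | n
    · rw [pow_zero, Subgroup.index_eq_one] at hn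
      have hall : ∀ a : (X : Subgroup G), a ∈ stabilizer (X : Subgroup G) ω.out := fun a =>
        hn ▸ Subgroup.mem_top a
      have hfix : ∀ a ∈ (X : Subgroup G), (ω.out.out)⁻¹ * a * ω.out.out ∈ (X : Subgroup G) := by
        intro a ha
        rw [mul_assoc, ← QuotientGroup.eq]
        have h := mem_stabilizer_iff.mp (hall ⟨a, ha⟩)
        conv_lhs => rw [QuotientGroup.out_eq', ← h]
        conv_lhs => rw [← QuotientGroup.out_eq' ω.out]
        rfl
      have hg : ω.out.out ∈ Subgroup.normalizer ((X : Subgroup G) : Set G) := by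
        have hle : (X : Subgroup G).map (MulAut.conj (ω.out.out)⁻¹).toMonoidHom = X := by
          refine Subgroup.eq_of_le_of_card_ge ?_ (le_of_eq ?_)
          · rintro _ ⟨a, ha, rfl⟩
            simpa using hfix a ha
          · exact (Nat.card_congr ((X : Subgroup G).equivMapOfInjective _
              (MulEquiv.injective (MulAut.conj (ω.out.out)⁻¹))).toEquiv)
        refine inv_mem_iff.mp (Subgroup.mem_normalizer_iff.mpr fun a => ⟨fun ha => ?_, fun ha => ?_⟩)
        · have := Subgroup.mem_map_of_mem (MulAut.conj (ω.out.out)⁻¹).toMonoidHom ha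
          rwa [hle] at this
        · obtain ⟨b, hb, hba⟩ := (SetLike.ext_iff.mp hle _).mpr ha
          have hba' : b = a := (MulEquiv.injective (MulAut.conj (ω.out.out)⁻¹)) (by
            simpa [MulAut.conj_apply] using hba)
          exact hba' ▸ hb
      have key : ∀ (k : ℕ) (hk : z ^ k ∈ stabilizer (X : Subgroup G) ω.out), k = 1 →
          orbitHom ψ (X : Subgroup G) ω.out ⟨z ^ k, hk⟩ = e ^ k := by
        intro k hk hk1
        subst hk1
        rw [orbitHom_apply ψ (X : Subgroup G) ω.out ⟨z ^ 1, hk⟩ (by simpa using hfix z z.2),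
          pow_one e]
        convert hval _ (hfix z z.2) hg using 3
        simp
      exact key _ _ (hn.symm ▸ Subgroup.index_top)
    · have key : ∀ (k : ℕ) (hk : z ^ k ∈ stabilizer (X : Subgroup G) ω.out), 2 ∣ k →
          orbitHom ψ (X : Subgroup G) ω.out ⟨z ^ k, hk⟩ = e ^ k := by
        rintro _ hk ⟨m, rfl⟩
        rw [pow_mul e, sq, he, one_pow, ← map_one (orbitHom ψ (X : Subgroup G) ω.out)]
        congr 1
        exact Subtype.ext (show z ^ (2 * m) = 1 by rw [pow_mul, sq, hz, one_pow])
      exact key _ _ (hn ▸ dvd_pow_self 2 n.succ_ne_zero)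
  rw [Finset.prod_congr rfl fun ω _ => hterm ω, Finset.prod_pow_eq_pow_sum]
  have hsum : ∑ ω : orbitRel.Quotient (X : Subgroup G) (G ⧸ (X : Subgroup G)),
      (stabilizer (X : Subgroup G) ω.out).index = (X : Subgroup G).index := by
    simp only [Subgroup.index_eq_card]
    rw [Nat.card_congr (selfEquivSigmaOrbitsQuotientStabilizer (X : Subgroup G) (G ⧸ (X : Subgroup G))),
      Nat.card_sigma]
  rw [hsum]
  obtain ⟨m, hm⟩ : Odd (X : Subgroup G).index := by
    rw [← Nat.not_even_iff_odd, even_iff_two_dvd]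
    exact X.not_dvd_index
  rw [hm, pow_succ, pow_mul, sq, he, one_pow, one_mul]

/-- A homomorphism to a cyclic group taking an involution as value gives a subgroup of index 2. -/
theorem exists_index_two [Finite A] [IsCyclic A] (V : G →* A) {g : G} (h1 : V g ≠ 1)
    (h2 : V g * V g = 1) : ∃ H : Subgroup G, H.index = 2 := by
  haveI : Fact (Nat.Prime 2) := ⟨Nat.prime_two⟩
  refine ⟨(powMonoidHom 2 : V.range →* V.range).range.comap V.rangeRestrict, ?_⟩
  rw [Subgroup.index_comap_of_surjective _ V.rangeRestrict_surjective,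
    IsCyclic.index_powMonoidHom_range]
  refine Nat.gcd_eq_right ?_
  have ho : orderOf (⟨V g, g, rfl⟩ : V.range) = 2 := by
    rw [← Subgroup.orderOf_coe]
    exact orderOf_eq_prime (by rw [sq]; exact h2) h1
  exact ho ▸ orderOf_dvd_natCard _

end Transfer

end Cfsg.Agent.Lib.RankThreeLinear
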